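import Groth.Agent.SBSplitLib.Iso
import Groth.Agent.CSALib.Splitting
import Groth.Prelude.Def_BrSev2

/-!
# The Severi–Brauer scheme is split by a Galois splitting field of the algebra
-/

set_option autoImplicit false
set_option linter.unusedSectionVars false
universe u

open CategoryTheory CategoryTheory.Limits AlgebraicGeometry
open scoped TensorProduct

namespace Groth.Agent.SBSplitLib

variable {k : Type u} [Field k] {A : Type u} [Ring A] [Algebra k A] {E : Type u} [Field E] [Algebra k E]
  {m : ℕ} (φ : E ⊗[k] A ≃ₐ[E] Matrix (Fin (m + 1)) (Fin (m + 1)) E)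

section Theta

variable (R : Type u) [CommRing R] [Algebra k R] [Algebra E R] [IsScalarTower k E R]

/-- The representation by matrices over an algebra. -/
noncomputable def rho : A →ₐ[k] Matrix (Fin (m + 1)) (Fin (m + 1)) R :=
  ((IsScalarTower.toAlgHom k E R).mapMatrix).comp
    ((φ.toAlgHom.restrictScalars k).comp Algebra.TensorProduct.includeRight)

/-- The comparison with matrices. -/
noncomputable def thetaHom : R ⊗[k] A →ₐ[R] Matrix (Fin (m + 1)) (Fin (m + 1)) R :=
  Algebra.TensorProduct.lift (Algebra.ofId R _) (rho φ R) fun r a => Algebra.commutes r _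

theorem thetaHom_tmul (r : R) (a : A) :
    thetaHom φ R (r ⊗ₜ[k] a) = r • (φ (1 ⊗ₜ[k] a)).map (algebraMap E R) := by
  rw [thetaHom, Algebra.TensorProduct.lift_tmul, Algebra.ofId_apply, ← Algebra.smul_def]
  rfl

theorem thetaHom_map (z : E ⊗[k] A) :
    thetaHom φ R (Algebra.TensorProduct.map (IsScalarTower.toAlgHom k E R) (AlgHom.id k A) z) =
      (φ z).map (algebraMap E R) := by
  induction z using TensorProduct.induction_on with
  | zero => simp
  | tmul e a =>
    rw [Algebra.TensorProduct.map_tmul, thetaHom_tmul, AlgHom.id_apply,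
      show e ⊗ₜ[k] a = e • ((1 : E) ⊗ₜ[k] a) by rw [TensorProduct.smul_tmul', smul_eq_mul, mul_one], map_smul]
    ext i j
    simp
  | add x y hx hy =>
    rw [map_add, map_add, hx, hy, map_add]
    ext i j
    simp

theorem thetaHom_surjective : Function.Surjective (thetaHom φ R) := by
  intro M
  refine ⟨∑ i, ∑ j, M i j • Algebra.TensorProduct.map (IsScalarTower.toAlgHom k E R) (AlgHom.id k A)
    (φ.symm (Matrix.single i j 1)), ?_⟩
  simp only [map_sum, map_smul, thetaHom_map, AlgEquiv.apply_symm_apply]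
  conv_rhs => rw [Matrix.matrix_eq_sum_single M]
  refine Finset.sum_congr rfl fun i _ => Finset.sum_congr rfl fun j _ => ?_
  ext a b
  by_cases h : i = a ∧ j = b <;> simp [Matrix.single_apply, h]

theorem thetaHom_bijective : Function.Bijective (thetaHom φ R) := by
  refine ⟨?_, thetaHom_surjective φ R⟩
  have hA : Module.finrank k A = (m + 1) * (m + 1) := CSALib.finrank_of_splits φ
  haveI : Module.Finite k A := Module.finite_of_finrank_pos (by rw [hA]; positivity)
  let b := (Algebra.TensorProduct.basis R (Module.finBasis k A)).reindex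
    (Fintype.equivOfCardEq (β := Fin (m + 1) × Fin (m + 1)) (by simp [hA]))
  let e := (Matrix.stdBasis R (Fin (m + 1)) (Fin (m + 1))).equiv b (Equiv.refl _)
  have h : Function.Injective (e.toLinearMap ∘ₗ (thetaHom φ R).toLinearMap) :=
    OrzechProperty.injective_of_surjective_endomorphism _ (e.surjective.comp (thetaHom_surjective φ R))
  exact fun x y hxy => h (congrArg e hxy)

/-- The comparison with matrices, an isomorphism. -/
noncomputable def theta : (R ⊗[k] A) ≃ₐ[R] Matrix (Fin (m + 1)) (Fin (m + 1)) R :=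
  AlgEquiv.ofBijective (thetaHom φ R) (thetaHom_bijective φ R)

theorem theta_natural {S : Type u} [CommRing S] [Algebra k S] [Algebra E S] [IsScalarTower k E S]
    (g : R →ₐ[E] S) (x : R ⊗[k] A) :
    (theta φ R x).map g = theta φ S (Algebra.TensorProduct.map (g.restrictScalars k) (AlgHom.id k A) x) := by
  show (thetaHom φ R x).map g = thetaHom φ S _
  induction x using TensorProduct.induction_on with
  | zero => ext i j; simp
  | tmul r a =>
    rw [Algebra.TensorProduct.map_tmul, thetaHom_tmul, thetaHom_tmul]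
    ext i j
    simp
  | add x y hx hy =>
    rw [map_add, map_add, map_add, ← hx, ← hy]
    ext i j
    simp

end Theta

theorem map_mem_map {c : ℕ} {R S : Type u} [CommRing R] [Algebra k R] [CommRing S] [Algebra k S] (g : R →ₐ[k] S)
    (N : Module.Grassmannian R (R ⊗[k] A) c) {x : R ⊗[k] A} (hx : x ∈ N.toSubmodule) :
    Algebra.TensorProduct.map g (AlgHom.id k A) x ∈ (Module.Grassmannian.map g N).toSubmodule := by
  letI : Algebra R S := g.toAlgebra
  haveI : IsScalarTower k R S := IsScalarTower.of_algebraMap_eq' (IsScalarTower.algebraMap_eq k R S)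
  rw [Module.Grassmannian.map_toSubmodule, LinearMap.mem_ker]
  have h : ∀ y : R ⊗[k] A, Module.Grassmannian.baseChangeMkQ S N.toSubmodule
      (Algebra.TensorProduct.map g (AlgHom.id k A) y) = (1 : S) ⊗ₜ[R] Submodule.Quotient.mk y := by
    intro y
    induction y using TensorProduct.induction_on with
    | zero => simp
    | tmul r a =>
      have h1 : r ⊗ₜ[k] a = r • ((1 : R) ⊗ₜ[k] a) := by rw [TensorProduct.smul_tmul', smul_eq_mul, mul_one]
      rw [Algebra.TensorProduct.map_tmul, h1, Submodule.Quotient.mk_smul, TensorProduct.tmul_smul,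
        TensorProduct.smul_tmul', Algebra.smul_def, mul_one]
      simp [Module.Grassmannian.baseChangeMkQ]
      rfl
    | add x y hx hy => rw [map_add, map_add, hx, hy, Submodule.Quotient.mk_add, TensorProduct.tmul_add]
  rw [h, (Submodule.Quotient.mk_eq_zero _).2 hx, TensorProduct.tmul_zero]

variable {X : Scheme.{u}} {f : X ⟶ Spec (CommRingCat.of k)}
  (s : BrSev.SBStr k A ((m + 1) * (m + 1) - (m + 1)) f)

/-- The ideal of a point. -/
noncomputable def ideal {R : CommRingCat.{u}} (α : CommRingCat.of E ⟶ R) (h : Spec R ⟶ X)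
    (w : h ≫ f = Spec.map α ≫ Spec.map (CommRingCat.ofHom (algebraMap k E))) :
    Submodule R (Matrix (Fin (m + 1)) (Fin (m + 1)) R) :=
  letI : Algebra E R := α.hom.toAlgebra
  letI : Algebra k R := (α.hom.comp (algebraMap k E)).toAlgebra
  haveI : IsScalarTower k E R := IsScalarTower.of_algebraMap_eq' rfl
  (s.bij R ⟨h, w.trans (Spec.map_comp _ _).symm⟩).1.toSubmodule.map (theta φ R).toLinearEquiv.toLinearMap

theorem ideal_congr {R : CommRingCat.{u}} {α α' : CommRingCat.of E ⟶ R} {h h' : Spec R ⟶ X} (eα : α = α')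
    (eh : h = h') (w : h ≫ f = Spec.map α ≫ Spec.map (CommRingCat.ofHom (algebraMap k E))) :
    ideal φ s α h w = ideal φ s α' h' (eα ▸ eh ▸ w) := by
  subst eα eh; rfl

theorem isLine_ideal {R : CommRingCat.{u}} (α : CommRingCat.of E ⟶ R) (h : Spec R ⟶ X)
    (w : h ≫ f = Spec.map α ≫ Spec.map (CommRingCat.ofHom (algebraMap k E))) : IsLine (ideal φ s α h w) := by
  letI : Algebra E R := α.hom.toAlgebra
  letI : Algebra k R := (α.hom.comp (algebraMap k E)).toAlgebra
  haveI : IsScalarTower k E R := IsScalarTower.of_algebraMap_eq' rfl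
  let e := (theta φ R).toLinearEquiv
  let N := s.bij R ⟨h, w.trans (Spec.map_comp _ _).symm⟩
  show IsLine (N.1.toSubmodule.map e.toLinearMap)
  let q := Submodule.Quotient.equiv N.1.toSubmodule (N.1.toSubmodule.map e.toLinearMap) e rfl
  haveI := N.1.finite_quotient
  haveI := N.1.projective_quotient
  refine ⟨?_, Module.Finite.equiv q, Module.Projective.of_equiv q, fun p => ?_⟩
  · rintro P _ ⟨x, hx, rfl⟩
    obtain ⟨a, rfl⟩ := (theta φ R).surjective P
    exact ⟨a * x, N.2 a x hx, map_mul (theta φ R) a x⟩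
  · rw [← Module.rankAtStalk_eq_of_equiv q, N.1.rankAtStalk_eq]

theorem ideal_map {R S : CommRingCat.{u}} (g : R ⟶ S) {α : CommRingCat.of E ⟶ R} {α' : CommRingCat.of E ⟶ S}
    {h : Spec R ⟶ X} {h' : Spec S ⟶ X} (eα : α' = α ≫ g) (eh : h' = Spec.map g ≫ h)
    (w : h ≫ f = Spec.map α ≫ Spec.map (CommRingCat.ofHom (algebraMap k E)))
    (w' : h' ≫ f = Spec.map α' ≫ Spec.map (CommRingCat.ofHom (algebraMap k E)))
    {M : Matrix (Fin (m + 1)) (Fin (m + 1)) R} (hM : M ∈ ideal φ s α h w) :
    M.map g.hom ∈ ideal φ s α' h' w' := by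
  subst eα eh
  letI : Algebra E R := α.hom.toAlgebra
  letI : Algebra k R := (α.hom.comp (algebraMap k E)).toAlgebra
  haveI : IsScalarTower k E R := IsScalarTower.of_algebraMap_eq' rfl
  letI : Algebra E S := (α ≫ g).hom.toAlgebra
  letI : Algebra k S := ((α ≫ g).hom.comp (algebraMap k E)).toAlgebra
  haveI : IsScalarTower k E S := IsScalarTower.of_algebraMap_eq' rfl
  let G : R →ₐ[E] S := { g.hom with commutes' := fun _ => rfl }
  let N := s.bij R ⟨h, w.trans (Spec.map_comp _ _).symm⟩
  obtain ⟨x, hx, rfl⟩ := (show M ∈ N.1.toSubmodule.map (theta φ R).toLinearEquiv.toLinearMap from hM)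
  refine ⟨Algebra.TensorProduct.map (G.restrictScalars k) (AlgHom.id k A) x, ?_, (theta_natural φ R G x).symm⟩
  have hn := s.natural R S (G.restrictScalars k) ⟨h, w.trans (Spec.map_comp _ _).symm⟩
  exact hn.ge (map_mem_map _ _ hx)

theorem ideal_inj {R : CommRingCat.{u}} {α α' : CommRingCat.of E ⟶ R} {h h' : Spec R ⟶ X} (eα : α = α')
    (w : h ≫ f = Spec.map α ≫ Spec.map (CommRingCat.ofHom (algebraMap k E)))
    (w' : h' ≫ f = Spec.map α' ≫ Spec.map (CommRingCat.ofHom (algebraMap k E)))
    (hN : ideal φ s α h w = ideal φ s α' h' w') : h = h' := by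
  subst eα
  letI : Algebra E R := α.hom.toAlgebra
  letI : Algebra k R := (α.hom.comp (algebraMap k E)).toAlgebra
  haveI : IsScalarTower k E R := IsScalarTower.of_algebraMap_eq' rfl
  have h1 := Submodule.map_injective_of_injective (theta φ R).toLinearEquiv.injective hN
  have h2 := (s.bij R).injective (Subtype.ext (Module.Grassmannian.ext h1))
  exact congrArg Subtype.val h2

theorem exists_ideal_eq {R : CommRingCat.{u}} (α : CommRingCat.of E ⟶ R)
    {L : Submodule R (Matrix (Fin (m + 1)) (Fin (m + 1)) R)} (hL : IsLine L) :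
    ∃ (h : Spec R ⟶ X) (w : h ≫ f = Spec.map α ≫ Spec.map (CommRingCat.ofHom (algebraMap k E))),
      ideal φ s α h w = L := by
  letI : Algebra E R := α.hom.toAlgebra
  letI : Algebra k R := (α.hom.comp (algebraMap k E)).toAlgebra
  haveI : IsScalarTower k E R := IsScalarTower.of_algebraMap_eq' rfl
  let e := (theta φ R).toLinearEquiv
  let L' := L.map e.symm.toLinearMap
  have hL' : L'.map e.toLinearMap = L := by
    rw [← Submodule.map_comp, e.comp_symm, Submodule.map_id]
  let q := Submodule.Quotient.equiv L' L e hL'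
  haveI := hL.finite
  haveI := hL.projective
  let G : Module.Grassmannian R (R ⊗[k] A) ((m + 1) * (m + 1) - (m + 1)) :=
    { toSubmodule := L'
      finite_quotient := Module.Finite.equiv q.symm
      projective_quotient := Module.Projective.of_equiv q.symm
      rankAtStalk_eq := fun p => by rw [Module.rankAtStalk_eq_of_equiv q]; exact hL.rank p }
  have hst : ∀ a x : R ⊗[k] A, x ∈ G.toSubmodule → a * x ∈ G.toSubmodule := by
    rintro a _ ⟨M, hM, rfl⟩
    refine ⟨theta φ R a * M, hL.stable _ _ hM, ?_⟩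
    show (theta φ R).symm (theta φ R a * M) = a * (theta φ R).symm M
    rw [map_mul, AlgEquiv.symm_apply_apply]
  refine ⟨((s.bij R).symm ⟨G, hst⟩).1, ((s.bij R).symm ⟨G, hst⟩).2.trans (Spec.map_comp _ _), ?_⟩
  show (s.bij R ((s.bij R).symm ⟨G, hst⟩)).1.toSubmodule.map e.toLinearMap = L
  rw [Equiv.apply_symm_apply]
  exact hL'

theorem point_comp {R : CommRingCat.{u}} (g : Spec R ⟶ BrSev.bc f E) :
    (g ≫ BrSev.proj f E) ≫ f =
      Spec.map (Spec.preimage (g ≫ BrSev.bcTo f E)) ≫ Spec.map (CommRingCat.ofHom (algebraMap k E)) := by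
  rw [Spec.map_preimage, Category.assoc, Category.assoc, pullback.condition]

/-- The base change has the functor of lines. -/
noncomputable def lineData : LineData (BrSev.bcTo f E) m where
  N g := ideal φ s (Spec.preimage (g ≫ BrSev.bcTo f E)) (g ≫ BrSev.proj f E) (point_comp g)
  isLine g := isLine_ideal φ s _ _ _
  map_mem g h M hM := ideal_map φ s g (Spec.map_injective (by
    rw [Spec.map_comp, Spec.map_preimage, Spec.map_preimage, Category.assoc])) (Category.assoc _ _ _) _ _ hM
  inj g g' h hN := pullback.hom_ext (ideal_inj φ s (by rw [h]) _ _ hN) h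
  surj := fun t v c hv => by
    obtain ⟨h, w, hh⟩ := exists_ideal_eq φ s (Spec.preimage t) (isLine_rows hv)
    have e1 : h ≫ f = t ≫ Spec.map (CommRingCat.ofHom (algebraMap k E)) := by rw [w, Spec.map_preimage]
    refine ⟨pullback.lift h t e1, pullback.lift_snd _ _ _, ?_⟩
    rw [← hh]
    exact ideal_congr φ s (congrArg Spec.preimage (pullback.lift_snd _ _ _)) (pullback.lift_fst _ _ _) _

include φ s in
/-- Severi–Brauer schemes are split by splitting fields. -/
theorem nonempty_splitting : Nonempty (BrSev.Splitting f E m) :=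
  haveI := isIso_Φ (lineData φ s)
  ⟨{ iso := (asIso (Φ (lineData φ s))).symm
     comm := by
       show inv (Φ (lineData φ s)) ≫ _ = _
       rw [IsIso.inv_comp_eq, Φ_comp] }⟩

theorem main (hm : Module.finrank k A = (m + 1) * (m + 1)) [Algebra.IsCentral k A] [IsSimpleRing A]
    (hX : BrSev.IsSBOf k A ((m + 1) * (m + 1) - (m + 1)) f) :
    ∃ (K : Type u) (_ : Field K) (_ : Algebra k K), FiniteDimensional k K ∧ IsGalois k K ∧
      Nonempty (BrSev.Splitting f K m) := by
  haveI : FiniteDimensional k A := Module.finite_of_finrank_pos (by rw [hm]; positivity)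
  obtain ⟨K, hfin, hgal, n, -, ⟨ψ⟩⟩ := CSALib.exists_galois_splitting (k := k) (A := A)
  obtain rfl : n = m + 1 := Nat.mul_self_inj.1 ((CSALib.finrank_of_splits ψ).symm.trans hm)
  obtain ⟨s⟩ := hX
  exact ⟨K, inferInstance, inferInstance, hfin, hgal, nonempty_splitting ψ s⟩

end Groth.Agent.SBSplitLib
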