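import Groth.Agent.SBSplitLib.Rows
import Groth.Agent.ProjMap.Segre

/-!
# A scheme with the functor of lines is the projective space
-/

set_option autoImplicit false
set_option linter.unusedSectionVars false
universe u

open CategoryTheory CategoryTheory.Limits AlgebraicGeometry MvPolynomial HomogeneousLocalization
open Groth.Agent

namespace Groth.Agent.SBSplitLib

variable {E : Type u} [CommRing E] {m : ℕ} {Y : Scheme.{u}} (q : Y ⟶ Spec (CommRingCat.of E))

/-- An identification of the points of `Y` with the ideals given by lines. -/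
structure LineData (m : ℕ) where
  N : ∀ {R : CommRingCat.{u}} (_ : Spec R ⟶ Y), Submodule R (Matrix (Fin (m + 1)) (Fin (m + 1)) R)
  isLine : ∀ {R : CommRingCat.{u}} (g : Spec R ⟶ Y), IsLine (N g)
  map_mem : ∀ {R S : CommRingCat.{u}} (f : R ⟶ S) (g : Spec R ⟶ Y) (M : Matrix (Fin (m + 1)) (Fin (m + 1)) R),
    M ∈ N g → M.map f.hom ∈ N (Spec.map f ≫ g)
  inj : ∀ {R : CommRingCat.{u}} (g g' : Spec R ⟶ Y), g ≫ q = g' ≫ q → N g = N g' → g = g'
  surj : ∀ {R : CommRingCat.{u}} (s : Spec R ⟶ Spec (CommRingCat.of E)) (v : Fin (m + 1) → R) (c : Fin (m + 1)),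
    v c = 1 → ∃ g : Spec R ⟶ Y, g ≫ q = s ∧ N g = rows v

variable {q}

theorem rows_le_of_mem {R : Type u} [CommRing R] {k : ℕ} {N : Submodule R (Matrix (Fin k) (Fin k) R)}
    (hN : IsLine N) {w : Fin k → R} (c : Fin k) (h : Matrix.vecMulVec (Pi.single c 1) w ∈ N) : rows w ≤ N := by
  rintro _ ⟨a, rfl⟩
  have h1 := hN.stable (Matrix.vecMulVec a (Pi.single c 1)) _ h
  rwa [Matrix.mul_vecMulVec, show Matrix.mulVec (Matrix.vecMulVec a (Pi.single c (1 : R))) (Pi.single c 1) = a by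
    funext i
    rw [Matrix.mulVec_single_one]
    show Matrix.vecMulVec a (Pi.single c 1) i c = a i
    rw [Matrix.vecMulVec_apply, Pi.single_eq_same, mul_one]] at h1

variable (E m) in
/-- The coordinate rings of the standard charts. -/
noncomputable abbrev Ac (c : Fin (m + 1)) : CommRingCat.{u} :=
  CommRingCat.of (Away (CohB1.polyGrading m E) (X c : MvPolynomial (Fin (m + 1)) E))

theorem coords_self' {R : CommRingCat.{u}} (c : Fin (m + 1)) (φ : Ac E m c ⟶ R) :
    ProjMap.coords (R := E) c φ.hom c = 1 := by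
  letI : Algebra E R := (φ.hom.comp ((fromZeroRingHom _ _).comp
    (algebraMap E (CohB1.polyGrading m E 0)))).toAlgebra
  exact ProjMap.coords_self c φ.hom

theorem exists_smul' {R : CommRingCat.{u}} {c d : Fin (m + 1)} (φ : Ac E m c ⟶ R) (ψ : Ac E m d ⟶ R)
    (h : Spec.map φ ≫ ProjMap.chart c = Spec.map ψ ≫ ProjMap.chart d) :
    ∃ t : R, IsUnit t ∧ ∀ i, ProjMap.coords (R := E) d ψ.hom i = t * ProjMap.coords (R := E) c φ.hom i := by
  letI : Algebra E R := (φ.hom.comp ((fromZeroRingHom _ _).comp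
    (algebraMap E (CohB1.polyGrading m E 0)))).toAlgebra
  exact ProjMap.exists_smul_of_comp_eq φ.hom ψ.hom h

variable (D : LineData q m)

theorem exists_chartPt (c : Fin (m + 1)) : ∃ g : Spec (Ac E m c) ⟶ Y,
    g ≫ q = ProjMap.chart c ≫ CohB1.ProjSpace.toSpec m E ∧
      D.N g = rows (ProjMap.coords (R := E) c (RingHom.id (Ac E m c))) :=
  D.surj _ _ c (coords_self' c (𝟙 _))

/-- The universal point of a chart. -/
noncomputable def chartPt (c : Fin (m + 1)) : Spec (Ac E m c) ⟶ Y := (exists_chartPt D c).choose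

theorem chartPt_comp (c : Fin (m + 1)) : chartPt D c ≫ q = ProjMap.chart c ≫ CohB1.ProjSpace.toSpec m E :=
  (exists_chartPt D c).choose_spec.1

theorem N_chartPt_comp {R : CommRingCat.{u}} (c : Fin (m + 1)) (φ : Ac E m c ⟶ R) :
    D.N (Spec.map φ ≫ chartPt D c) = rows (ProjMap.coords (R := E) c φ.hom) := by
  refine ((isLine_rows (coords_self' c φ)).eq_of_le (D.isLine _) (rows_le_of_mem (D.isLine _) c ?_)).symm
  have h1 := D.map_mem φ (chartPt D c)
    (Matrix.vecMulVec (Pi.single c 1) (ProjMap.coords (R := E) c (RingHom.id (Ac E m c))))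
    (by rw [show D.N (chartPt D c) = _ from (exists_chartPt D c).choose_spec.2]; exact ⟨_, rfl⟩)
  convert h1 using 1
  ext i j
  rw [Matrix.map_apply, Matrix.vecMulVec_apply, Matrix.vecMulVec_apply, map_mul]
  by_cases hi : i = c
  · subst hi; rw [Pi.single_eq_same, Pi.single_eq_same, map_one]; rfl
  · rw [Pi.single_eq_of_ne hi, Pi.single_eq_of_ne hi, map_zero]; simp

theorem comp_chartPt_eq {R : CommRingCat.{u}} {c d : Fin (m + 1)} (φ : Ac E m c ⟶ R) (ψ : Ac E m d ⟶ R)
    (h : Spec.map φ ≫ ProjMap.chart c = Spec.map ψ ≫ ProjMap.chart d) :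
    Spec.map φ ≫ chartPt D c = Spec.map ψ ≫ chartPt D d := by
  obtain ⟨t, ht, ht'⟩ := exists_smul' φ ψ h
  refine D.inj _ _ ?_ ?_
  · simp only [Category.assoc, chartPt_comp]
    rw [← Category.assoc, ← Category.assoc, h]
  · rw [N_chartPt_comp, N_chartPt_comp, rows_eq_of_smul ht ht']

/-- The comparison from the projective space. -/
noncomputable def Φ : CohB1.ProjSpace m E ⟶ Y :=
  (ProjMap.chartCover E m).glueMorphisms (fun c => chartPt D c) fun (c d : Fin (m + 1)) => by
    have h1 : (Proj.pullbackAwayιIso (CohB1.polyGrading m E) (ProjMap.X_mem (R := E) c) one_pos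
        (ProjMap.X_mem (R := E) d) one_pos (x := (X c : MvPolynomial (Fin (m + 1)) E) * X d) rfl).inv ≫
          (pullback.fst _ _ ≫ chartPt D c) =
        (Proj.pullbackAwayιIso (CohB1.polyGrading m E) (ProjMap.X_mem (R := E) c) one_pos
        (ProjMap.X_mem (R := E) d) one_pos (x := (X c : MvPolynomial (Fin (m + 1)) E) * X d) rfl).inv ≫
          (pullback.snd _ _ ≫ chartPt D d) := by
      rw [Proj.pullbackAwayιIso_inv_fst_assoc, Proj.pullbackAwayιIso_inv_snd_assoc]
      refine comp_chartPt_eq D _ _ ?_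
      exact (Proj.SpecMap_awayMap_awayι _ (ProjMap.X_mem (R := E) c) one_pos (ProjMap.X_mem d) rfl).trans
        (Proj.SpecMap_awayMap_awayι _ (ProjMap.X_mem (R := E) d) one_pos (ProjMap.X_mem c) (mul_comm _ _)).symm
    exact (cancel_epi _).1 h1

theorem chart_Φ (c : Fin (m + 1)) : ProjMap.chart c ≫ Φ D = chartPt D c :=
  Scheme.Cover.ι_glueMorphisms (ProjMap.chartCover E m) (fun c => chartPt D c) _ c

theorem Φ_comp : Φ D ≫ q = CohB1.ProjSpace.toSpec m E :=
  (ProjMap.chartCover E m).hom_ext _ _ fun c => by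
    show ProjMap.chart c ≫ Φ D ≫ q = ProjMap.chart c ≫ _
    rw [← Category.assoc, chart_Φ, chartPt_comp]

theorem eq_of_comp_Φ {R : CommRingCat.{u}} {c d : Fin (m + 1)} (φ : Ac E m c ⟶ R) (ψ : Ac E m d ⟶ R)
    (h : Spec.map φ ≫ chartPt D c = Spec.map ψ ≫ chartPt D d) :
    Spec.map φ ≫ ProjMap.chart c = Spec.map ψ ≫ ProjMap.chart d := by
  letI : Algebra E R := (Spec.preimage (Spec.map φ ≫ ProjMap.chart c ≫ CohB1.ProjSpace.toSpec m E)).hom.toAlgebra
  have hφ : ProjMap.IsAlg (R := E) c φ.hom := ProjMap.isAlg_of_toSpec c φ.hom (Spec.map_preimage _).symm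
  have hψ : ProjMap.IsAlg (R := E) d ψ.hom := ProjMap.isAlg_of_toSpec d ψ.hom (by
    refine Eq.trans ?_ (Spec.map_preimage _).symm
    show Spec.map ψ ≫ _ = Spec.map φ ≫ _
    rw [← chartPt_comp D d, ← chartPt_comp D c, ← Category.assoc, ← h, Category.assoc])
  have hN := congrArg D.N h
  rw [N_chartPt_comp, N_chartPt_comp] at hN
  obtain ⟨hu, hw⟩ := exists_unit_of_rows_eq (ProjMap.coords_self c φ.hom) (ProjMap.coords_self d ψ.hom) hN.symm
  calc Spec.map φ ≫ ProjMap.chart c
      = ProjMap.point (R := E) (ProjMap.coords c φ.hom) c (by simp) := (ProjMap.point_coords c φ.hom hφ).symm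
    _ = ProjMap.point (R := E) (ProjMap.coords d ψ.hom) c hu :=
        (ProjMap.point_smul _ _ _ hw c _ _).symm
    _ = ProjMap.point (R := E) (ProjMap.coords d ψ.hom) d (by simp) := ProjMap.point_chart _ c d _ _
    _ = Spec.map ψ ≫ ProjMap.chart d := ProjMap.point_coords d ψ.hom hψ

instance mono_Φ : Mono (Φ D) := by
  refine ⟨fun {T} a b hab => Scheme.hom_ext_of_forall a b fun t => ?_⟩
  obtain ⟨c, hc⟩ := ProjMap.exists_chart E (k := m) (a t)
  obtain ⟨d, hd⟩ := ProjMap.exists_chart E (k := m) (b t)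
  obtain ⟨W, hW, htW, hWV⟩ := exists_isAffineOpen_mem_and_subset
    (U := a ⁻¹ᵁ (ProjMap.chart (R := E) c).opensRange ⊓ b ⁻¹ᵁ (ProjMap.chart (R := E) d).opensRange) (x := t)
    ⟨hc, hd⟩
  refine ⟨W, htW, ?_⟩
  suffices h : hW.fromSpec ≫ a = hW.fromSpec ≫ b by
    rw [← hW.isoSpec_hom_fromSpec, Category.assoc, Category.assoc, h]
  have ha : Set.range (hW.fromSpec ≫ a) ⊆ Set.range (ProjMap.chart (R := E) c) := by
    rintro _ ⟨z, rfl⟩
    exact (hWV (hW.range_fromSpec.le (Set.mem_range_self z))).1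
  have hb : Set.range (hW.fromSpec ≫ b) ⊆ Set.range (ProjMap.chart (R := E) d) := by
    rintro _ ⟨z, rfl⟩
    exact (hWV (hW.range_fromSpec.le (Set.mem_range_self z))).2
  obtain ⟨φ, hφ⟩ := Spec.map_surjective (IsOpenImmersion.lift (ProjMap.chart (R := E) c) (hW.fromSpec ≫ a) ha)
  obtain ⟨ψ, hψ⟩ := Spec.map_surjective (IsOpenImmersion.lift (ProjMap.chart (R := E) d) (hW.fromSpec ≫ b) hb)
  rw [← IsOpenImmersion.lift_fac _ _ ha, ← IsOpenImmersion.lift_fac _ _ hb, ← hφ, ← hψ]
  refine eq_of_comp_Φ D φ ψ ?_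
  rw [← chart_Φ, ← chart_Φ, hφ, hψ, IsOpenImmersion.lift_fac_assoc, IsOpenImmersion.lift_fac_assoc,
    Category.assoc, Category.assoc, hab]

theorem exists_piece (y : Y) : ∃ (R : CommRingCat.{u}) (g : Spec R ⟶ Y) (_ : IsOpenImmersion g)
    (c : Fin (m + 1)) (w : Fin (m + 1) → R), y ∈ Set.range g ∧ w c = 1 ∧ D.N g = rows w := by
  obtain ⟨W, hW, hyW, -⟩ := exists_isAffineOpen_mem_and_subset (U := (⊤ : Y.Opens)) (x := y) trivial
  obtain ⟨p, hp⟩ : y ∈ Set.range hW.fromSpec := hW.range_fromSpec ▸ hyW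
  obtain ⟨M, hM, i, c, hic⟩ := (D.isLine hW.fromSpec).exists_entry (Nat.succ_pos m) p
  let S : CommRingCat.{u} := CommRingCat.of (Localization.Away (M i c))
  let l : Γ(Y, W) ⟶ S := CommRingCat.ofHom (algebraMap _ _)
  haveI : IsOpenImmersion (Spec.map l) := IsOpenImmersion.of_isLocalization (M i c)
  obtain ⟨inv, hinv⟩ : ∃ t, (M.map l.hom) i c * t = 1 :=
    (IsLocalization.Away.algebraMap_isUnit (S := Localization.Away (M i c)) (M i c)).exists_right_inv
  refine ⟨S, Spec.map l ≫ hW.fromSpec, inferInstance, c, fun j => (M.map l.hom) i j * inv, ?_, hinv, ?_⟩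
  · have h : p ∈ Set.range (Spec.map l) := by
      show p ∈ Set.range (PrimeSpectrum.comap (algebraMap Γ(Y, W) (Localization.Away (M i c))))
      rw [PrimeSpectrum.localization_away_comap_range _ (M i c)]
      exact hic
    obtain ⟨z, hz⟩ := h
    exact ⟨z, by rw [Scheme.Hom.comp_apply, hz, hp]⟩
  refine ((isLine_rows (by exact hinv)).eq_of_le (D.isLine _) (rows_le_of_mem (D.isLine _) c ?_)).symm
  convert (D.isLine (Spec.map l ≫ hW.fromSpec)).stable (Matrix.single c i inv) _ (D.map_mem l _ M hM) using 1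
  ext a j
  rw [Matrix.vecMulVec_apply]
  by_cases ha : a = c
  · subst ha; rw [Pi.single_eq_same, Matrix.single_mul_apply_same]; ring
  · rw [Pi.single_eq_of_ne ha, Matrix.single_mul_apply_of_ne (h := ha), zero_mul]

theorem exists_lift {R : CommRingCat.{u}} (g : Spec R ⟶ Y) {c : Fin (m + 1)} {w : Fin (m + 1) → R} (hw : w c = 1)
    (hN : D.N g = rows w) : ∃ a : Spec R ⟶ CohB1.ProjSpace m E, a ≫ Φ D = g := by
  letI : Algebra E R := (Spec.preimage (g ≫ q)).hom.toAlgebra
  have hu : IsUnit (w c) := hw ▸ isUnit_one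
  let φ : Ac E m c ⟶ R := CommRingCat.ofHom (ProjMap.evalAway (R := E) w (X c) (by simpa using hu))
  have hφ : ProjMap.coords (R := E) c φ.hom = w := funext fun j => by
    have h := ProjMap.evalAway_mk (v := w) (ProjMap.X_mem c) (by simpa using hu) 1 (X j)
      (by simpa using ProjMap.X_mem (R := E) j)
    simp only [aeval_X, pow_one, hw, mul_one] at h
    exact h
  refine ⟨Spec.map φ ≫ ProjMap.chart c, ?_⟩
  rw [Category.assoc, chart_Φ]
  refine D.inj _ _ ?_ (by rw [N_chartPt_comp, hφ, hN])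
  rw [Category.assoc, chartPt_comp]
  exact (Category.assoc _ _ _).symm.trans ((ProjMap.point_toSpec w c hu).trans (Spec.map_preimage _))

/-- The comparison is an isomorphism. -/
theorem isIso_Φ : IsIso (Φ D) := by
  choose R g hg c w hy hw hN using exists_piece D
  choose a ha using fun y => exists_lift D (g y) (hw y) (hN y)
  let 𝒰 : Y.OpenCover := Scheme.Cover.mkOfCovers Y (fun y => Spec (R y)) g (fun y => ⟨y, hy y⟩) hg
  let Ψ : Y ⟶ CohB1.ProjSpace m E := 𝒰.glueMorphisms a fun x y => (cancel_mono (Φ D)).1 (by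
    refine (Category.assoc _ _ _).trans (Eq.trans ?_ (Category.assoc _ _ _).symm)
    show pullback.fst (g x) (g y) ≫ (a x ≫ Φ D) = pullback.snd (g x) (g y) ≫ (a y ≫ Φ D)
    rw [ha, ha]
    exact pullback.condition)
  have h1 : Ψ ≫ Φ D = 𝟙 Y := 𝒰.hom_ext _ _ fun y => by
    rw [← Category.assoc, Scheme.Cover.ι_glueMorphisms]
    exact (ha y).trans (Category.comp_id _).symm
  exact ⟨Ψ, (cancel_mono (Φ D)).1 (by rw [Category.assoc, h1, Category.comp_id, Category.id_comp]), h1⟩

end Groth.Agent.SBSplitLib
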