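import Mathlib

/-!
# Left ideals of matrix algebras given by a line
-/

set_option autoImplicit false
set_option linter.unusedSectionVars false
universe u

open scoped TensorProduct Matrix

namespace Groth.Agent.SBSplitLib

variable {R : Type u} [CommRing R] {n : ℕ}

/-- The matrices with all rows in the line spanned by a vector. -/
def rows (v : Fin n → R) : Submodule R (Matrix (Fin n) (Fin n) R) where
  carrier := {M | ∃ a : Fin n → R, Matrix.vecMulVec a v = M}
  add_mem' := by
    rintro _ _ ⟨a, rfl⟩ ⟨b, rfl⟩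
    exact ⟨a + b, Matrix.add_vecMulVec a b v⟩
  zero_mem' := ⟨0, Matrix.zero_vecMulVec v⟩
  smul_mem' := by
    rintro r _ ⟨a, rfl⟩
    exact ⟨r • a, Matrix.smul_vecMulVec r a v⟩

theorem mul_mem_rows {v : Fin n → R} {M : Matrix (Fin n) (Fin n) R} (P : Matrix (Fin n) (Fin n) R)
    (h : M ∈ rows v) : P * M ∈ rows v := by
  obtain ⟨a, rfl⟩ := h
  exact ⟨P *ᵥ a, (Matrix.mul_vecMulVec P a v).symm⟩

/-- The entries outside a column after clearing it. -/
def clearCol (v : Fin n → R) (c : Fin n) :
    Matrix (Fin n) (Fin n) R →ₗ[R] ({p : Fin n × Fin n // p.2 ≠ c} → R) where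
  toFun M p := M p.1.1 p.1.2 - M p.1.1 c * v p.1.2
  map_add' M N := funext fun p => by simp only [Matrix.add_apply, Pi.add_apply]; ring
  map_smul' r M := funext fun p => by simp only [Matrix.smul_apply, Pi.smul_apply, RingHom.id_apply, smul_eq_mul]; ring

theorem ker_clearCol {v : Fin n → R} {c : Fin n} (hv : v c = 1) : LinearMap.ker (clearCol v c) = rows v := by
  ext M
  rw [LinearMap.mem_ker]
  constructor
  · intro h
    refine ⟨fun i => M i c, Matrix.ext fun i j => ?_⟩
    rw [Matrix.vecMulVec_apply]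
    by_cases hj : j = c
    · subst hj; rw [hv, mul_one]
    · exact (sub_eq_zero.1 (congrFun h ⟨(i, j), hj⟩)).symm
  · rintro ⟨a, rfl⟩
    funext p
    show Matrix.vecMulVec a v _ _ - Matrix.vecMulVec a v _ _ * v _ = 0
    rw [Matrix.vecMulVec_apply, Matrix.vecMulVec_apply, hv]
    ring

theorem clearCol_surjective (v : Fin n → R) (c : Fin n) : Function.Surjective (clearCol v c) := by
  intro g
  refine ⟨fun i j => if h : j = c then 0 else g ⟨(i, j), h⟩, funext fun p => ?_⟩
  show (if h : p.1.2 = c then 0 else g ⟨(p.1.1, p.1.2), h⟩) - (if h : c = c then 0 else g ⟨(p.1.1, c), h⟩) * v p.1.2 = g p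
  rw [dif_neg p.2, dif_pos rfl, zero_mul, sub_zero]

/-- The quotient by a line is free. -/
noncomputable def quotRows {v : Fin n → R} {c : Fin n} (hv : v c = 1) :
    (Matrix (Fin n) (Fin n) R ⧸ rows v) ≃ₗ[R] ({p : Fin n × Fin n // p.2 ≠ c} → R) :=
  (Submodule.quotEquivOfEq _ _ (ker_clearCol hv).symm).trans
    ((clearCol v c).quotKerEquivOfSurjective (clearCol_surjective v c))

theorem card_off_col (c : Fin n) : Fintype.card {p : Fin n × Fin n // p.2 ≠ c} = n * n - n := by
  rw [Fintype.card_subtype_compl, Fintype.card_prod, Fintype.card_fin]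
  congr 1
  rw [Fintype.card_congr ((Equiv.subtypeEquivRight fun p => (by rfl : p.2 = c ↔ p.2 = c)).trans
    ⟨fun p => p.1.1, fun i => ⟨(i, c), rfl⟩, fun p => Subtype.ext (Prod.ext rfl p.2.symm), fun _ => rfl⟩),
    Fintype.card_fin]

/-- The conditions on the corresponding ideal. -/
structure IsLine (N : Submodule R (Matrix (Fin n) (Fin n) R)) : Prop where
  stable : ∀ P M : Matrix (Fin n) (Fin n) R, M ∈ N → P * M ∈ N
  finite : Module.Finite R (Matrix (Fin n) (Fin n) R ⧸ N)
  projective : Module.Projective R (Matrix (Fin n) (Fin n) R ⧸ N)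
  rank : ∀ p, Module.rankAtStalk (R := R) (Matrix (Fin n) (Fin n) R ⧸ N) p = n * n - n

theorem isLine_rows {v : Fin n → R} {c : Fin n} (hv : v c = 1) : IsLine (rows v) := by
  haveI : Module.Finite R (Matrix (Fin n) (Fin n) R ⧸ rows v) := Module.Finite.equiv (quotRows hv).symm
  haveI : Module.Projective R (Matrix (Fin n) (Fin n) R ⧸ rows v) := Module.Projective.of_equiv (quotRows hv).symm
  refine ⟨fun P M h => mul_mem_rows P h, inferInstance, inferInstance, fun p => ?_⟩
  rcases subsingleton_or_nontrivial R with hR | hR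
  · exact absurd (Subsingleton.elim _ _ : (1 : R) = 0) (fun h => p.2.ne_top ((Ideal.eq_top_iff_one _).2 (h ▸ p.asIdeal.zero_mem)))
  rw [Module.rankAtStalk_eq_of_equiv (quotRows hv), Module.rankAtStalk_eq_finrank_of_free]
  show Module.finrank R ({p : Fin n × Fin n // p.2 ≠ c} → R) = _
  rw [Module.finrank_pi, card_off_col]

/-- Ideals of the same kind which are nested agree. -/
theorem IsLine.eq_of_le {N N' : Submodule R (Matrix (Fin n) (Fin n) R)} (h : IsLine N) (h' : IsLine N') (hle : N ≤ N') :
    N = N' := by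
  haveI := h.finite
  haveI := h.projective
  haveI := h'.finite
  haveI := h'.projective
  let f : (Matrix (Fin n) (Fin n) R ⧸ N) →ₗ[R] (Matrix (Fin n) (Fin n) R ⧸ N') := Submodule.factor hle
  have hf : Function.Surjective f := Submodule.factor_surjective hle
  obtain ⟨s, hs⟩ := Module.projective_lifting_property f LinearMap.id hf
  let K := LinearMap.ker f
  let e : (Matrix (Fin n) (Fin n) R ⧸ N) ≃ₗ[R] K × (Matrix (Fin n) (Fin n) R ⧸ N') :=
    LinearEquiv.ofBijective (LinearMap.prod ((LinearMap.id - s ∘ₗ f).codRestrict K fun x => by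
        rw [LinearMap.mem_ker, LinearMap.sub_apply, map_sub, LinearMap.comp_apply, ← LinearMap.comp_apply f s, hs]
        simp) f) ⟨fun x y hxy => by
      have h1 : f x = f y := congrArg Prod.snd hxy
      have h2 : x - s (f x) = y - s (f y) := congrArg (fun z : K × _ => (z.1 : Matrix (Fin n) (Fin n) R ⧸ N)) hxy
      rw [h1] at h2
      exact sub_left_injective h2,
    fun z => ⟨(z.1 : Matrix (Fin n) (Fin n) R ⧸ N) + s z.2, by
      have h1 : f ((z.1 : Matrix (Fin n) (Fin n) R ⧸ N) + s z.2) = z.2 := by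
        rw [map_add, LinearMap.mem_ker.1 z.1.2, zero_add]
        exact LinearMap.congr_fun hs z.2
      refine Prod.ext (Subtype.ext ?_) h1
      show (z.1 : Matrix (Fin n) (Fin n) R ⧸ N) + s z.2 - s (f _) = z.1
      rw [h1, add_sub_cancel_right]⟩⟩
  haveI : Module.Finite R K := Module.Finite.of_surjective ((LinearMap.fst R K _) ∘ₗ e.toLinearMap)
    (Prod.fst_surjective.comp e.surjective)
  haveI : Module.Projective R K := Module.Projective.of_split (e.symm.toLinearMap ∘ₗ LinearMap.inl R K _)
      (LinearMap.fst R K _ ∘ₗ e.toLinearMap) (by ext x; simp)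
  have hK : Module.rankAtStalk (R := R) K = 0 := by
    funext p
    have h1 := congrFun ((Module.rankAtStalk_eq_of_equiv e).trans (Module.rankAtStalk_prod _ _)) p
    rw [h.rank, Pi.add_apply, h'.rank] at h1
    simpa using h1
  haveI : Subsingleton K := (Module.rankAtStalk_eq_zero_iff_subsingleton (R := R)).1 hK
  refine le_antisymm hle fun x hx => ?_
  have h1 : Submodule.Quotient.mk x ∈ K := LinearMap.mem_ker.2 ((Submodule.Quotient.mk_eq_zero N').2 hx)
  exact (Submodule.Quotient.mk_eq_zero N).1 (congrArg Subtype.val (Subsingleton.elim (⟨_, h1⟩ : K) 0))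

/-- At every prime such an ideal has an entry outside the prime. -/
theorem IsLine.exists_entry {N : Submodule R (Matrix (Fin n) (Fin n) R)} (h : IsLine N) (hn : 0 < n)
    (p : PrimeSpectrum R) : ∃ M ∈ N, ∃ i j : Fin n, M i j ∉ p.asIdeal := by
  by_contra hc
  push Not at hc
  haveI := h.finite
  haveI := h.projective
  let κ := p.asIdeal.ResidueField
  let F : Matrix (Fin n) (Fin n) R →ₗ[R] (Fin n × Fin n → κ) :=
    { toFun := fun M q => algebraMap R κ (M q.1 q.2)
      map_add' := fun M M' => funext fun q => map_add _ _ _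
      map_smul' := fun r M => funext fun q => by
        rw [Matrix.smul_apply, smul_eq_mul, map_mul, RingHom.id_apply, Pi.smul_apply, Algebra.smul_def] }
  have hF : N ≤ LinearMap.ker F := fun M hM => LinearMap.mem_ker.2
    (funext fun q => Ideal.algebraMap_residueField_eq_zero.2 (hc M hM q.1 q.2))
  let G : κ ⊗[R] (Matrix (Fin n) (Fin n) R ⧸ N) →ₗ[κ] (Fin n × Fin n → κ) :=
    LinearMap.liftBaseChange κ (N.liftQ F hF)
  have hG : Function.Surjective G := by
    intro g
    refine ⟨∑ q, g q ⊗ₜ[R] Submodule.Quotient.mk (Matrix.single q.1 q.2 1), funext fun r => ?_⟩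
    simp only [G, map_sum, LinearMap.liftBaseChange_tmul, Submodule.liftQ_apply, Finset.sum_apply, Pi.smul_apply,
      smul_eq_mul]
    rw [Finset.sum_eq_single r]
    · simp [F]
    · intro q _ hq
      have h1 : ¬ (q.1 = r.1 ∧ q.2 = r.2) := fun h => hq (Prod.ext h.1 h.2)
      simp [F, Matrix.single_apply, h1]
    · simp
  haveI : Module.Finite κ (κ ⊗[R] (Matrix (Fin n) (Fin n) R ⧸ N)) := inferInstance

  have h2 : Module.finrank κ (κ ⊗[R] (Matrix (Fin n) (Fin n) R ⧸ N)) = n * n - n := by
    rw [← h.rank p, Module.rankAtStalk_eq]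
  have h3 : n * n ≤ n * n - n := by
    have := LinearMap.finrank_le_finrank_of_injective (f := (LinearMap.exists_rightInverse_of_surjective G
      (LinearMap.range_eq_top.2 hG)).choose) (fun a b hab => by
        have h4 := (LinearMap.exists_rightInverse_of_surjective G (LinearMap.range_eq_top.2 hG)).choose_spec
        rw [← LinearMap.id_apply (R := κ) a, ← LinearMap.id_apply (R := κ) b, ← h4, LinearMap.comp_apply, hab,
          LinearMap.comp_apply])
    rw [h2, Module.finrank_pi, Fintype.card_prod, Fintype.card_fin] at this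
    exact this
  have : n ≤ n * n := Nat.le_mul_self n
  omega

/-- A vector with a unit entry spanning the same line is a unit multiple. -/
theorem exists_unit_of_rows_eq {v w : Fin n → R} {c d : Fin n} (hv : v c = 1) (hw : w d = 1)
    (h : rows w = rows v) : IsUnit (w c) ∧ ∀ i, w i = w c * v i := by
  obtain ⟨a, ha⟩ := h.le ⟨Pi.single d 1, rfl⟩
  have h1 : ∀ i, a d * v i = w i := fun i => by
    have := congrFun (congrFun ha d) i
    rwa [Matrix.vecMulVec_apply, Matrix.vecMulVec_apply, Pi.single_eq_same, one_mul] at this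
  have h2 : a d = w c := by rw [← h1 c, hv, mul_one]
  refine ⟨IsUnit.of_mul_eq_one (b := v d) ?_, fun i => by rw [← h2, h1]⟩
  rw [← h2, h1 d, hw]

theorem rows_eq_of_smul {v w : Fin n → R} {t : R} (ht : IsUnit t) (h : ∀ i, w i = t * v i) : rows w = rows v := by
  obtain ⟨u, rfl⟩ := ht
  ext M
  constructor
  · rintro ⟨a, rfl⟩
    exact ⟨(u : R) • a, Matrix.ext fun i j => by
      rw [Matrix.vecMulVec_apply, Matrix.vecMulVec_apply, Pi.smul_apply, smul_eq_mul, h]; ring⟩
  · rintro ⟨a, rfl⟩
    exact ⟨(↑u⁻¹ : R) • a, Matrix.ext fun i j => by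
      rw [Matrix.vecMulVec_apply, Matrix.vecMulVec_apply, Pi.smul_apply, smul_eq_mul, h]
      calc (↑u⁻¹ : R) * a i * (↑u * v j) = (↑u⁻¹ * ↑u : R) * (a i * v j) := by ring
        _ = _ := by rw [Units.inv_mul, one_mul]⟩

end Groth.Agent.SBSplitLib
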